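import Groth.Agent.BiextSplit.Triv
import Groth.Agent.BigSiteLib.FppfDesc.LocExact
import Groth.Agent.QCoh.RpushGod
import Mathlib.CategoryTheory.Preadditive.Yoneda.Limits
import Mathlib.CategoryTheory.Limits.Preserves.FunctorCategory

/-!
The class of a biextension in `Hom(P, 𝓔xt¹(Q, G))`; its vanishing gives local partial splittings.
-/

set_option backward.isDefEq.respectTransparency false

universe u

open CategoryTheory CategoryTheory.Limits Opposite

namespace Groth.Agent.BiextSplit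

open BiextDiv (res_res res_res_E ext_E ext_sec add₁_congr add₂_congr act_cancel act_add₁ act_add₂)

variable {C : Type (u + 1)} [Category.{u} C] {J : GrothendieckTopology C}
  {P Q G I Z : Sheaf J AddCommGrpCat.{u + 1}} {B : Biext J P Q G} {ι : G ⟶ I} {π : I ⟶ Z}

/-- The internal Hom is left exact in its second variable. -/
theorem preservesFiniteLimits_homShFunctor [HasSheafify J AddCommGrpCat.{u + 1}]
    (Q : Sheaf J AddCommGrpCat.{u + 1}) : PreservesFiniteLimits (HomSh.homShFunctor J Q) := by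
  have : PreservesFiniteLimits (HomSh.homShFunctor J Q ⋙ sheafToPresheaf J AddCommGrpCat.{u + 1}) := by
    refine preservesFiniteLimits_of_evaluation _ fun X => ?_
    let e : (HomSh.homShFunctor J Q ⋙ sheafToPresheaf J AddCommGrpCat.{u + 1}) ⋙ (evaluation _ _).obj X ≅
        J.overPullback AddCommGrpCat.{u + 1} X.unop ⋙ preadditiveCoyoneda.obj (op (Q.over X.unop)) :=
      NatIso.ofComponents (fun M => Iso.refl _) fun {M N} β => AddCommGrpCat.ext fun φ => by
        show (J.overPullback _ X.unop).map (𝟙 Q) ≫ φ ≫ (J.overPullback _ X.unop).map β =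
          φ ≫ (J.overPullback _ X.unop).map β
        erw [CategoryTheory.Functor.map_id, Category.id_comp]
    haveI : PreservesFiniteLimits (J.overPullback AddCommGrpCat.{u + 1} X.unop) := by
      have : PreservesFiniteLimits (J.overPullback AddCommGrpCat.{u + 1} X.unop ⋙
          sheafToPresheaf (J.over X.unop) AddCommGrpCat.{u + 1}) :=
        inferInstanceAs (PreservesFiniteLimits (sheafToPresheaf J AddCommGrpCat.{u + 1} ⋙
          (Functor.whiskeringLeft _ _ AddCommGrpCat.{u + 1}).obj (Over.forget X.unop).op))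
      exact preservesFiniteLimits_of_reflects_of_preserves _ (sheafToPresheaf (J.over X.unop) AddCommGrpCat.{u + 1})
    exact preservesFiniteLimits_of_natIso e.symm
  exact preservesFiniteLimits_of_reflects_of_preserves _ (sheafToPresheaf J AddCommGrpCat.{u + 1})

theorem hv_map {T : C} (d : Q.over T ⟶ I.over T) {U : C} (a : U ⟶ T) (q : Q.obj.obj (op U)) :
    hv ((HomSh.homShMap J (𝟙 Q) π).hom.app (op T) d) a q = π.hom.app (op U) (hv d a q) := rfl

theorem sections_exact [HasSheafify J AddCommGrpCat.{u + 1}] (w : ι ≫ π = 0)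
    (hS : (ShortComplex.mk ι π w).ShortExact) (U : C) (x : I.obj.obj (op U)) (hx : π.hom.app (op U) x = 0) :
    ∃ g, ι.hom.app (op U) g = x := by
  let Φ : Sheaf J AddCommGrpCat.{u + 1} ⥤ AddCommGrpCat.{u + 1} :=
    sheafToPresheaf J _ ⋙ (evaluation _ _).obj (op U)
  haveI : Φ.PreservesZeroMorphisms := { map_zero := fun _ _ => rfl }
  have h : ((ShortComplex.mk ι π w).map Φ).Exact :=
    ShortComplex.exact_of_f_is_kernel _ (KernelFork.mapIsLimit _ hS.fIsKernel Φ)
  exact (ShortComplex.ab_exact_iff _).1 h x hx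

/-- A partial splitting over the section `p`: a natural additive lift of the sections of `Q`. -/
def HasPSplit (B : Biext J P Q G) (T : C) (p : P.obj.obj (op T)) : Prop :=
  ∃ s : ∀ ⦃U : C⦄ (_ : U ⟶ T), Q.obj.obj (op U) → B.E.obj.obj (op U),
    ∃ hP : ∀ ⦃U : C⦄ (a : U ⟶ T) q, B.πP U (s a q) = P.obj.map a.op p,
    (∀ ⦃U : C⦄ (a : U ⟶ T) q, B.πQ U (s a q) = q) ∧
    (∀ ⦃U V : C⦄ (k : V ⟶ U) (a : U ⟶ T) q, B.E.obj.map k.op (s a q) = s (k ≫ a) (Q.obj.map k.op q)) ∧
    ∀ ⦃U : C⦄ (a : U ⟶ T) q q', s a (q + q') = B.add₂ U (s a q) (s a q') ((hP a q).trans (hP a q').symm)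

/-- A trivialisation whose class lifts to `I` gives a partial splitting. -/
theorem hasPSplit_of_lift [HasSheafify J AddCommGrpCat.{u + 1}] (w : ι ≫ π = 0)
    (hS : (ShortComplex.mk ι π w).ShortExact) {T : C} {p : P.obj.obj (op T)} (t : Triv B ι T p)
    (d : Q.over T ⟶ I.over T)
    (ht : ∀ ⦃U : C⦄ (a : U ⟶ T) (e : B.E.obj.obj (op U)) (h : B.πP U e = P.obj.map a.op p),
      π.hom.app (op U) (hv d a (B.πQ U e)) = π.hom.app (op U) (t.val a e h)) : HasPSplit B T p := by
  haveI : Mono ι := hS.mono_f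
  let R : ∀ ⦃U : C⦄, (U ⟶ T) → Q.obj.obj (op U) → B.E.obj.obj (op U) → Prop := fun U a q e =>
    ∃ h : B.πP U e = P.obj.map a.op p, B.πQ U e = q ∧ t.val a e h = hv d a q
  have hres : ∀ ⦃U V : C⦄ (k : V ⟶ U) (a : U ⟶ T) q e, R a q e → R (k ≫ a) (Q.obj.map k.op q) (B.E.obj.map k.op e) :=
    fun U V k a q e ⟨h, hq, hve⟩ => ⟨by rw [B.πP_map, h, res_res], by rw [B.πQ_map, hq],
      by rw [t.val_res k a e h, hve, hv_nat]⟩
  have huniq : ∀ ⦃U : C⦄ (a : U ⟶ T) q e e', R a q e → R a q e' → e = e' := by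
    rintro U a q e e' ⟨h, hq, hve⟩ ⟨h', hq', hve'⟩
    obtain ⟨g, hg, -⟩ := B.existsUnique_act U e e' (h.trans h'.symm) (hq.trans hq'.symm)
    rw [t.val_congr rfl hg.symm h', t.val_act a g e h, hve] at hve'
    have hg0 : g = 0 := BigSiteLib.FppfDesc.app_injective_of_mono ι U
      ((add_eq_right.1 hve').trans (map_zero _).symm)
    rw [← hg, hg0, B.zero_act]
  have hloc : ∀ ⦃U : C⦄ (a : U ⟶ T) q, ∃ S ∈ J U, ∀ ⦃V : C⦄ (k : V ⟶ U), S k →
      ∃ e, R (k ≫ a) (Q.obj.map k.op q) e := by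
    intro U a q
    obtain ⟨S, hS', hl⟩ := B.locallySurjective U (P.obj.map a.op p) q
    refine ⟨S, hS', fun V k hk => ?_⟩
    obtain ⟨e, heP, heQ⟩ := hl k hk
    rw [res_res] at heP
    obtain ⟨g, hg⟩ := sections_exact w hS V (t.val (k ≫ a) e heP - hv d (k ≫ a) (B.πQ V e))
      (by rw [map_sub, ht (k ≫ a) e heP, sub_self])
    refine ⟨B.act V (-g) e, (B.πP_act V _ e).trans heP, by rw [B.πQ_act, heQ], ?_⟩
    rw [t.val_act (k ≫ a) (-g) e heP, map_neg, hg, heQ]
    abel
  have hex : ∀ ⦃U : C⦄ (a : U ⟶ T) q, ∃ e, R a q e := by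
    intro U a q
    obtain ⟨S, hS', hl⟩ := hloc a q
    obtain ⟨e, he⟩ := glue B.E (fun V k x => R (k ≫ a) (Q.obj.map k.op q) x)
      (fun V W l k x hx => by
        have := hres l _ _ _ hx
        rwa [res_res, ← Category.assoc] at this)
      (fun V k x y => huniq _ _ x y) ⟨S, hS', hl⟩
    have hP : B.πP U e = P.obj.map a.op p := ext_sec P hS' fun V k hk => by
      obtain ⟨x, hx⟩ := hl k hk
      rw [← B.πP_map, he k x hx, hx.choose, res_res]
    refine ⟨e, hP, ext_sec Q hS' fun V k hk => ?_, ext_sec I hS' fun V k hk => ?_⟩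
    · obtain ⟨x, hx⟩ := hl k hk
      obtain ⟨h, hq, -⟩ := id hx
      rw [← B.πQ_map, he k x hx, hq]
    · obtain ⟨x, hx⟩ := hl k hk
      obtain ⟨h, hq, hve⟩ := id hx
      rw [hv_nat, ← hve, ← t.val_res k a e hP]
      exact t.val_congr rfl (he k x hx) _
  choose s hs using hex
  refine ⟨s, fun U a q => (hs a q).choose, fun U a q => (hs a q).choose_spec.1,
    fun U V k a q => huniq _ _ _ _ (hres k a q _ (hs a q)) (hs _ _), fun U a q q' => huniq _ _ _ _ (hs a _) ?_⟩
  obtain ⟨h, hq, hve⟩ := hs a q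
  obtain ⟨h', hq', hve'⟩ := hs a q'
  exact ⟨(B.πP_add₂ U _ _ _).trans h, by rw [B.πQ_add₂, hq, hq'],
    by rw [t.val_add₂ a _ _ h h', hve, hve', map_add]⟩

/-- If every map from `P` to the cokernel of `𝓗om(Q, I) → 𝓗om(Q, Z)` vanishes, partial splittings exist locally. -/
theorem exists_local_psplit_of_coker [HasSheafify J AddCommGrpCat.{u + 1}] [Injective I] (B : Biext J P Q G)
    (w : ι ≫ π = 0) (hS : (ShortComplex.mk ι π w).ShortExact)
    (h0 : ∀ φ : P ⟶ cokernel (HomSh.homShMap J (𝟙 Q) π), φ = 0) (T : C) (p : P.obj.obj (op T)) :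
    ∃ S ∈ J T, ∀ ⦃T' : C⦄ (f : T' ⟶ T), S f → HasPSplit B T' (P.obj.map f.op p) := by
  let m := HomSh.homShMap J (𝟙 Q) π
  let pr := cokernel.π m
  choose c hc using fun (U : C) (x : P.obj.obj (op U)) => exists_cls (B := B) (π := π) w U x
  have hadd : ∀ (U : C) (x y : P.obj.obj (op U)) (cx cy cz : Q.over U ⟶ _), Cls B ι π U x cx → Cls B ι π U y cy →
      Cls B ι π U (x + y) cz → pr.hom.app (op U) cz = pr.hom.app (op U) cx + pr.hom.app (op U) cy := by
    intro U x y cx cy cz hx hy hz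
    obtain ⟨d, hd⟩ := Cls.add hx hy hz
    have hm : (m.hom.app (op U) d : (HomSh.homSh J Q (Z)).obj.obj (op U)) = cz - cx - cy :=
      hom_ext_hv fun V a q => (hd a q).trans rfl
    have h1 : pr.hom.app (op U) (m.hom.app (op U) d) = 0 := by
      rw [← ConcreteCategory.comp_apply]
      exact congrArg (fun φ => φ.hom.app (op U) d) (cokernel.condition m)
    rw [hm, map_sub, map_sub, sub_sub, sub_eq_zero] at h1
    exact h1
  have huniq : ∀ (U : C) (x : P.obj.obj (op U)) (c1 c2 : Q.over U ⟶ _), Cls B ι π U x c1 → Cls B ι π U x c2 →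
      pr.hom.app (op U) c1 = pr.hom.app (op U) c2 := by
    intro U x c1 c2 h1 h2
    have h1' : Cls B ι π U (x + 0) c1 := by rw [add_zero]; exact h1
    have h2' : Cls B ι π U (x + 0) c2 := by rw [add_zero]; exact h2
    exact (hadd U x 0 _ _ _ h1 (hc U 0) h1').trans (hadd U x 0 _ _ _ h1 (hc U 0) h2').symm
  let θ : P ⟶ cokernel m := ⟨{
    app := fun U => AddCommGrpCat.ofHom (AddMonoidHom.mk' (fun x => pr.hom.app U (c U.unop x))
      (fun x y => hadd U.unop x y _ _ _ (hc _ x) (hc _ y) (hc _ (x + y))))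
    naturality := fun U V k => AddCommGrpCat.ext fun x =>
      (huniq V.unop _ _ _ (hc _ _) ((hc U.unop x).restrict k.unop)).trans
        (NatTrans.naturality_apply pr.hom k (c U.unop x)) }⟩
  have hθ : pr.hom.app (op T) (c T p) = 0 :=
    congrArg (fun φ => φ.hom.app (op T) p) (h0 θ)
  refine ⟨_, BigSiteLib.FppfDesc.locally_boundary (S := ShortComplex.mk m pr (cokernel.condition m))
    (ShortComplex.exact_of_g_is_cokernel _ (cokernelIsCokernel m)) (c T p) hθ, fun T' f hf => ?_⟩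
  obtain ⟨d, hd⟩ := hf
  obtain ⟨t, ht⟩ := (hc T p).restrict f
  refine hasPSplit_of_lift w hS t d fun U a e h => ?_
  exact (hv_map d a _).symm.trans ((congrArg
    (fun c : Q.over T' ⟶ Z.over T' => hv c a (B.πQ U e)) hd).trans (ht a e h))

theorem hom_coker_eq_zero {A A' : Type*} [Category A] [Abelian A] [EnoughInjectives A] [Category A'] [Abelian A']
    (F : A ⥤ A') [F.Additive] [PreservesFiniteLimits F] {X I Z : A} {f : X ⟶ I} {g : I ⟶ Z} {w : f ≫ g = 0}
    [Injective I] (hS : (ShortComplex.mk f g w).ShortExact) {P : A'}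
    (h : ∀ φ : P ⟶ (F.rightDerived 1).obj X, φ = 0) (φ : P ⟶ cokernel (F.map g)) : φ = 0 := by
  obtain ⟨e⟩ := Groth.Agent.QCoh.nonempty_R1_iso F hS (F.isZero_rightDerived_obj_injective_succ 0 _)
  rw [← cancel_mono e.inv, zero_comp]
  exact h _

/-- If `Hom(P, 𝓔xt¹(Q, G)) = 0` then every section of `P` has partial splittings locally. -/
theorem exists_local_psplit [HasSheafify J AddCommGrpCat.{u + 1}]
    [EnoughInjectives (Sheaf J AddCommGrpCat.{u + 1})] (B : Biext J P Q G)
    (h₂ : ∀ φ : P ⟶ ((HomSh.homShFunctor J Q).rightDerived 1).obj G, φ = 0) (T : C) (p : P.obj.obj (op T)) :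
    ∃ S ∈ J T, ∀ ⦃T' : C⦄ (f : T' ⟶ T), S f → HasPSplit B T' (P.obj.map f.op p) := by
  have hS : (ShortComplex.mk (Injective.ι G) (cokernel.π (Injective.ι G)) (cokernel.condition _)).ShortExact :=
    { exact := ShortComplex.exact_of_g_is_cokernel _ (cokernelIsCokernel _) }
  haveI := preservesFiniteLimits_homShFunctor (J := J) Q
  exact exists_local_psplit_of_coker B _ hS (hom_coker_eq_zero (HomSh.homShFunctor J Q) hS h₂) T p

end Groth.Agent.BiextSplit
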