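import Groth.Agent.BiextSplit.Class
import Mathlib.Algebra.Homology.DerivedCategory.Ext.ExactSequences

/-!
The sheaf of partial splittings of a biextension; splitting it gives a splitting of the biextension.
-/

set_option backward.isDefEq.respectTransparency false

universe u

open CategoryTheory CategoryTheory.Limits Opposite

namespace Groth.Agent.BiextSplit

open BiextDiv (res_res res_res_E ext_E ext_sec add₁_congr add₂_congr act_cancel act_add₁ act_add₂)

variable {C : Type (u + 1)} [Category.{u} C] {J : GrothendieckTopology C}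
  {P Q G : Sheaf J AddCommGrpCat.{u + 1}} (B : Biext J P Q G)

/-- The sum over `Q` of two points with the same image in `P`, as a point over `q + q'`. -/
noncomputable def addQ {U : C} {q q' : Q.obj.obj (op U)} (x : Fib (swap B) U q) (y : Fib (swap B) U q')
    (h : B.πP U x.1 = B.πP U y.1) : Fib (swap B) U (q + q') :=
  ⟨B.add₂ U x.1 y.1 h, (B.πQ_add₂ U x.1 y.1 h).trans (congrArg₂ (· + ·) x.2 y.2)⟩

theorem addQ_add {U : C} {q q' : Q.obj.obj (op U)} (x x' : Fib (swap B) U q) (y y' : Fib (swap B) U q')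
    (h : B.πP U x.1 = B.πP U y.1) (h' : B.πP U x'.1 = B.πP U y'.1)
    (h'' : B.πP U (x + x').1 = B.πP U (y + y').1) :
    addQ B (x + x') (y + y') h'' = addQ B x y h + addQ B x' y' h' :=
  Subtype.ext (B.compat U x.1 y.1 x'.1 y'.1 h h' (x.2.trans x'.2.symm) (y.2.trans y'.2.symm)).symm

theorem addQ_congr {U : C} {q q' : Q.obj.obj (op U)} {x x' : Fib (swap B) U q} {y y' : Fib (swap B) U q'}
    (hx : x = x') (hy : y = y') (h : B.πP U x.1 = B.πP U y.1) : addQ B x y h = addQ B x' y' (hx ▸ hy ▸ h) := by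
  subst hx; subst hy; rfl

theorem πP_eq_proj {U : C} {q : Q.obj.obj (op U)} (x : Fib (swap B) U q) :
    B.πP U x.1 = Fib.proj (swap B) U q x := rfl

theorem addQ_zero {U : C} {q q' : Q.obj.obj (op U)}
    (h : B.πP U (0 : Fib (swap B) U q).1 = B.πP U (0 : Fib (swap B) U q').1) :
    addQ B (0 : Fib (swap B) U q) (0 : Fib (swap B) U q') h = 0 := by
  have h2 : B.πP U ((0 : Fib (swap B) U q) + 0).1 = B.πP U ((0 : Fib (swap B) U q') + 0).1 := by
    rw [πP_eq_proj, πP_eq_proj, map_add, map_add, map_zero, map_zero]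
  have := addQ_add B 0 0 0 0 h h h2
  rw [addQ_congr B (add_zero (0 : Fib (swap B) U q)) (add_zero (0 : Fib (swap B) U q')) h2] at this
  exact add_eq_left.1 this.symm

theorem addQ_neg {U : C} {q q' : Q.obj.obj (op U)} (x : Fib (swap B) U q) (y : Fib (swap B) U q')
    (h : B.πP U x.1 = B.πP U y.1) (h' : B.πP U (-x).1 = B.πP U (-y).1) :
    addQ B (-x) (-y) h' = -addQ B x y h := by
  have h2 : B.πP U (-x + x).1 = B.πP U (-y + y).1 := by
    rw [πP_eq_proj, πP_eq_proj, neg_add_cancel, neg_add_cancel, map_zero, map_zero]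
  have := addQ_add B (-x) x (-y) y h' h h2
  rw [addQ_congr B (neg_add_cancel x) (neg_add_cancel y) h2, addQ_zero] at this
  exact eq_neg_of_add_eq_zero_left this.symm

/-- Pairs of a section `p` and a candidate partial splitting over it. -/
abbrev Pre (T : C) : Type (u + 1) :=
  P.obj.obj (op T) × (∀ (U : C) (_ : U ⟶ T) (q : Q.obj.obj (op U)), Fib (swap B) U q)

/-- The partial splittings, as a subgroup. -/
noncomputable def PS (T : C) : AddSubgroup (Pre B T) where
  carrier := {x | (∀ U a q, Fib.proj (swap B) U q (x.2 U a q) = P.obj.map a.op x.1) ∧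
    (∀ U V (k : V ⟶ U) a q, Fib.res (swap B) k rfl (x.2 U a q) = x.2 V (k ≫ a) (Q.obj.map k.op q)) ∧
    (∀ U a q q' (h : B.πP U (x.2 U a q).1 = B.πP U (x.2 U a q').1),
      addQ B (x.2 U a q) (x.2 U a q') h = x.2 U a (q + q'))}
  zero_mem' := ⟨fun U a q => by
      show Fib.proj (swap B) U q 0 = P.obj.map a.op 0
      rw [map_zero, map_zero],
    fun U V k a q => map_zero _, fun U a q q' h => addQ_zero B h⟩
  add_mem' {x y} hx hy := ⟨fun U a q => by
      show Fib.proj (swap B) U q (x.2 U a q + y.2 U a q) = P.obj.map a.op (x.1 + y.1)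
      rw [map_add, hx.1, hy.1, map_add],
    fun U V k a q => by
      show Fib.res (swap B) k rfl (x.2 U a q + y.2 U a q) = x.2 V _ _ + y.2 V _ _
      rw [map_add, hx.2.1, hy.2.1],
    fun U a q q' h => by
      have h1 : B.πP U (x.2 U a q).1 = B.πP U (x.2 U a q').1 := (hx.1 U a q).trans (hx.1 U a q').symm
      have h2 : B.πP U (y.2 U a q).1 = B.πP U (y.2 U a q').1 := (hy.1 U a q).trans (hy.1 U a q').symm
      show addQ B (x.2 U a q + y.2 U a q) (x.2 U a q' + y.2 U a q') h = x.2 U a _ + y.2 U a _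
      rw [addQ_add B _ _ _ _ h1 h2, hx.2.2, hy.2.2]⟩
  neg_mem' {x} hx := ⟨fun U a q => by
      show Fib.proj (swap B) U q (-x.2 U a q) = P.obj.map a.op (-x.1)
      rw [map_neg, hx.1, map_neg],
    fun U V k a q => by
      show Fib.res (swap B) k rfl (-x.2 U a q) = -x.2 V _ _
      rw [map_neg, hx.2.1],
    fun U a q q' h => by
      have h1 : B.πP U (x.2 U a q).1 = B.πP U (x.2 U a q').1 := (hx.1 U a q).trans (hx.1 U a q').symm
      show addQ B (-x.2 U a q) (-x.2 U a q') h = -x.2 U a _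
      rw [addQ_neg B _ _ h1, hx.2.2]⟩

theorem PS_ext {T : C} {x y : PS B T} (h1 : x.1.1 = y.1.1)
    (h2 : ∀ U a q, (x.1.2 U a q).1 = (y.1.2 U a q).1) : x = y :=
  Subtype.ext (Prod.ext h1 (funext fun U => funext fun a => funext fun q => Subtype.ext (h2 U a q)))

/-- Restriction of partial splittings. -/
noncomputable def PSres {T T' : C} (f : T' ⟶ T) : PS B T →+ PS B T' :=
  AddMonoidHom.mk' (fun x => ⟨(P.obj.map f.op x.1.1, fun U a q => x.1.2 U (a ≫ f) q),
    fun U a q => by rw [x.2.1, res_res],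
    fun U V k a q => by
      show Fib.res (swap B) k rfl (x.1.2 U (a ≫ f) q) = x.1.2 V ((k ≫ a) ≫ f) _
      rw [x.2.2.1, Category.assoc],
    fun U a q q' h => x.2.2.2 U (a ≫ f) q q' h⟩)
    fun x y => Subtype.ext (Prod.ext (map_add (P.obj.map f.op).hom _ _) rfl)

theorem PSres_snd {T T' : C} (f : T' ⟶ T) (x : PS B T) (U : C) (a : U ⟶ T') (q : Q.obj.obj (op U)) :
    (PSres B f x).1.2 U a q = x.1.2 U (a ≫ f) q := rfl

theorem val_congr {T : C} (x : PS B T) {U : C} {a a' : U ⟶ T} {q q' : Q.obj.obj (op U)} (ha : a = a') (hq : q = q') :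
    (x.1.2 U a q).1 = (x.1.2 U a' q').1 := by
  subst ha; subst hq; rfl

/-- The presheaf of partial splittings. -/
noncomputable def psPre : Cᵒᵖ ⥤ AddCommGrpCat.{u + 1} where
  obj T := AddCommGrpCat.of (PS B T.unop)
  map f := AddCommGrpCat.ofHom (PSres B f.unop)
  map_id T := AddCommGrpCat.ext fun x => PS_ext B (res_id P _) fun U a q => val_congr B x (Category.comp_id a) rfl
  map_comp f g := AddCommGrpCat.ext fun x => PS_ext B (res_res P f.unop g.unop x.1.1).symm
    fun U a q => val_congr B x (Category.assoc a g.unop f.unop).symm rfl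

theorem isSheaf_psPre : Presheaf.IsSheaf J (psPre B) := by
  apply Presheaf.isSheaf_of_isSheaf_comp J (psPre B) (forget AddCommGrpCat.{u + 1})
  rw [isSheaf_iff_isSheaf_of_type]
  intro T S hS x hx
  have hP := (isSheaf_iff_isSheaf_of_type _ _).1 ((sheafCompose J (forget AddCommGrpCat.{u + 1})).obj P).2
  have hcomm : ∀ ⦃Y Z : C⦄ (a : Y ⟶ T) (ha : S a) (k : Z ⟶ Y),
      x (k ≫ a) (S.downward_closed ha k) = PSres B k (x a ha) := fun Y Z a ha k => by
    have h := hx (𝟙 Z) k (S.downward_closed ha k) ha (Category.id_comp _)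
    have h0 : PSres B (𝟙 Z) (x (k ≫ a) (S.downward_closed ha k)) = (x (k ≫ a) (S.downward_closed ha k) : PS B Z) :=
      PS_ext B (res_id P _) fun U b q => val_congr B _ (Category.comp_id b) rfl
    exact h0.symm.trans h
  let xs : ∀ ⦃W : C⦄ (b : W ⟶ T), S b → Q.obj.obj (op W) → B.E.obj.obj (op W) := fun W b hb q =>
    ((x b hb).1.2 W (𝟙 W) q).1
  have xs_congr : ∀ ⦃W : C⦄ {b b' : W ⟶ T} {hb : S b} {hb' : S b'} {q q' : Q.obj.obj (op W)},
      b = b' → q = q' → xs b hb q = xs b' hb' q' := by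
    intro W b b' hb hb' q q' h1 h2
    subst h1; subst h2; rfl
  have hdown : ∀ ⦃V W : C⦄ (b : V ⟶ T) (hb : S b) (l : W ⟶ V) (q : Q.obj.obj (op W)),
      ((x b hb).1.2 W l q).1 = xs (l ≫ b) (S.downward_closed hb l) q := fun V W b hb l q => by
    refine Eq.trans ?_ (congrArg (fun z : PS B W => (z.1.2 W (𝟙 W) q).1) (hcomm b hb l)).symm
    exact val_congr B (x b hb) (Category.id_comp l).symm rfl
  obtain ⟨p, hp, -⟩ := hP S hS (fun Y a ha => (x a ha).1.1) (fun Y₁ Y₂ Z g₁ g₂ a₁ a₂ h₁ h₂ e =>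
    congrArg (fun z : PS B Z => z.1.1) (hx g₁ g₂ h₁ h₂ e))
  have key : ∀ (U : C) (a : U ⟶ T) (q : Q.obj.obj (op U)), ∃ e : B.E.obj.obj (op U),
      ∀ ⦃V : C⦄ (k : V ⟶ U) (hk : S (k ≫ a)),
        B.E.obj.map k.op e = ((x (k ≫ a) hk).1.2 V (𝟙 V) (Q.obj.map k.op q)).1 := by
    intro U a q
    obtain ⟨e, he⟩ := glue B.E
      (fun V (k : V ⟶ U) v => ∃ hk : S (k ≫ a), v = ((x (k ≫ a) hk).1.2 V (𝟙 V) (Q.obj.map k.op q)).1)
      (fun V W l k v ⟨hk, hv⟩ => by
        have hk' : S ((l ≫ k) ≫ a) := by rw [Category.assoc]; exact S.downward_closed hk l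
        refine ⟨hk', ?_⟩
        have e1 := congrArg Subtype.val ((x (k ≫ a) hk).2.2.1 V W l (𝟙 V) (Q.obj.map k.op q))
        rw [hv]
        refine e1.trans ((hdown _ hk _ _).trans (xs_congr ?_ (res_res Q k l q)))
        rw [Category.comp_id, Category.assoc])
      (fun V k v w ⟨hk, hv⟩ ⟨hk', hw⟩ => hv.trans hw.symm)
      ⟨S.pullback a, J.pullback_stable a hS, fun V k hk => ⟨_, hk, rfl⟩⟩
    exact ⟨e, fun V k hk => he k _ ⟨hk, rfl⟩⟩
  choose e he using key
  have hQ : ∀ U a q, B.πQ U (e U a q) = q := fun U a q => ext_sec Q (J.pullback_stable a hS) fun V k hk => by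
    rw [← B.πQ_map, he U a q k hk]
    exact ((x (k ≫ a) hk).1.2 V (𝟙 V) _).2
  have hPe : ∀ U a q, B.πP U (e U a q) = P.obj.map a.op p := fun U a q =>
    ext_sec P (J.pullback_stable a hS) fun V k hk => by
      rw [← B.πP_map, he U a q k hk, πP_eq_proj, (x (k ≫ a) hk).2.1, res_res]
      exact (res_id P _).trans (hp (k ≫ a) hk).symm
  let y : PS B T := ⟨(p, fun U a q => ⟨e U a q, hQ U a q⟩), hPe,
    fun U V k a q => Subtype.ext (ext_E B (J.pullback_stable (k ≫ a) hS) fun W l hl => by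
      have hl' : S ((l ≫ k) ≫ a) := by rw [Category.assoc]; exact hl
      show B.E.obj.map l.op (B.E.obj.map k.op (e U a q)) = B.E.obj.map l.op (e V (k ≫ a) (Q.obj.map k.op q))
      rw [res_res_E, he U a q (l ≫ k) hl', he V (k ≫ a) _ l hl]
      exact xs_congr (Category.assoc l k a) (res_res Q k l q).symm),
    fun U a q q' h => Subtype.ext (ext_E B (J.pullback_stable a hS) fun V k hk => by
      have hh := (x (k ≫ a) hk).2.2.2 V (𝟙 V) (Q.obj.map k.op q) (Q.obj.map k.op q')
        (((x (k ≫ a) hk).2.1 _ _ _).trans ((x (k ≫ a) hk).2.1 _ _ _).symm)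
      show B.E.obj.map k.op (B.add₂ U (e U a q) (e U a q') h) = B.E.obj.map k.op (e U a (q + q'))
      rw [B.add₂_map, add₂_congr B (he U a q k hk) (he U a q' k hk), he U a (q + q') k hk]
      refine (congrArg Subtype.val hh).trans ?_
      exact val_congr B _ rfl (map_add _ q q').symm)⟩
  refine ⟨y, fun Y a ha => PS_ext B (hp a ha) fun U b q => ?_, fun z hz => PS_ext B ?_ fun U a q => ?_⟩
  · show e U (b ≫ a) q = _
    have h1 := he U (b ≫ a) q (𝟙 U) (by rw [Category.id_comp]; exact S.downward_closed ha b)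
    rw [op_id, B.E.obj.map_id, ConcreteCategory.id_apply] at h1
    rw [h1]
    refine Eq.trans ?_ (hdown a ha b q).symm
    exact xs_congr (Category.id_comp _) (res_id Q q)
  · exact (hP S hS).isSeparatedFor.ext fun Y a ha =>
      (congrArg (fun w : PS B Y => w.1.1) (hz a ha)).trans (hp a ha).symm
  · refine ext_E B (J.pullback_stable a hS) fun V k hk => ?_
    rw [show B.E.obj.map k.op (y.1.2 U a q).1 = _ from he U a q k hk]
    have h1 := congrArg Subtype.val (z.2.2.1 U V k a q)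
    refine h1.trans ?_
    have e2 := congrArg (fun w : PS B V => (w.1.2 V (𝟙 V) (Q.obj.map k.op q)).1) (hz (k ≫ a) hk)
    exact (val_congr B z (Category.id_comp _).symm rfl).trans e2

/-- The sheaf of partial splittings. -/
noncomputable def psSh : Sheaf J AddCommGrpCat.{u + 1} := ⟨psPre B, isSheaf_psPre B⟩

/-- The projection to `P`. -/
noncomputable def psProj : psSh B ⟶ P :=
  ⟨{ app := fun T => AddCommGrpCat.ofHom (AddMonoidHom.mk' (fun x => x.1.1) fun _ _ => rfl)
     naturality := fun T T' f => rfl }⟩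

theorem res_incl' {U V : C} (k : V ⟶ U) (q : Q.obj.obj (op U)) (g : G.obj.obj (op U)) :
    Fib.res (swap B) k rfl (Fib.incl (swap B) U q g) = Fib.incl (swap B) V _ (G.obj.map k.op g) :=
  Fib.res_incl k rfl g

theorem addQ_incl {U : C} {q q' : Q.obj.obj (op U)} (g g' : G.obj.obj (op U))
    (h : B.πP U (Fib.incl (swap B) U q g).1 = B.πP U (Fib.incl (swap B) U q' g').1) :
    addQ B (Fib.incl (swap B) U q g) (Fib.incl (swap B) U q' g') h = Fib.incl (swap B) U (q + q') (g + g') := by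
  apply Subtype.ext
  have h0 : B.πP U (0 : Fib (swap B) U q).1 = B.πP U (0 : Fib (swap B) U q').1 := by
    rw [πP_eq_proj, πP_eq_proj, map_zero, map_zero]
  exact (act_add₂ B g g' _ _ h0).trans (congrArg (B.act U _) (congrArg Subtype.val (addQ_zero B h0)))

/-- The inclusion of `𝓗om(Q, G)`. -/
noncomputable def psIncl : HomSh.homSh J Q G ⟶ psSh B :=
  ⟨{ app := fun T => AddCommGrpCat.ofHom (AddMonoidHom.mk'
      (fun φ => ⟨(0, fun U a q => Fib.incl (swap B) U q (hv (T := T.unop) φ a q)),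
        fun U a q => by rw [Fib.proj_incl, map_zero],
        fun U V k a q => by rw [res_incl', hv_nat],
        fun U a q q' h => (addQ_incl B _ _ h).trans
          (congrArg (Fib.incl (swap B) U (q + q')) (map_add (hv (T := T.unop) φ a) q q').symm)⟩)
      fun φ ψ => Subtype.ext (Prod.ext (zero_add (0 : P.obj.obj (op T.unop))).symm
        (funext fun U => funext fun a => funext fun q =>
          map_add (Fib.incl (swap B) U q) (hv (T := T.unop) φ a q) (hv (T := T.unop) ψ a q))))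
     naturality := fun T T' f => AddCommGrpCat.ext fun φ => Subtype.ext (Prod.ext
       (map_zero (P.obj.map f).hom).symm rfl) }⟩

theorem psIncl_comp : psIncl B ≫ psProj B = 0 :=
  Sheaf.hom_ext (NatTrans.ext (funext fun T => AddCommGrpCat.ext fun φ => rfl))

theorem shortExact_ps [HasSheafify J AddCommGrpCat.{u + 1}]
    (hl : ∀ T p, ∃ S ∈ J T, ∀ ⦃T' : C⦄ (f : T' ⟶ T), S f → HasPSplit B T' (P.obj.map f.op p)) :
    (ShortComplex.mk (psIncl B) (psProj B) (psIncl_comp B)).ShortExact := by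
  haveI hmono : Mono (psIncl B) := by
    haveI : ∀ T, Mono ((psIncl B).hom.app T) := fun T => (AddCommGrpCat.mono_iff_injective _).2 fun φ ψ h =>
      hom_ext_hv fun U a q => Fib.incl_injective (congrArg (fun z : PS B T.unop => z.1.2 U a q) h)
    haveI : Mono (psIncl B).hom := NatTrans.mono_of_mono_app _
    exact (sheafToPresheaf J AddCommGrpCat.{u + 1}).mono_of_mono_map
      (show Mono ((sheafToPresheaf J AddCommGrpCat.{u + 1}).map (psIncl B)) from inferInstanceAs (Mono (psIncl B).hom))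
  haveI hepi : Epi (psProj B) := by
    refine (Sheaf.isLocallySurjective_iff_epi' AddCommGrpCat.{u + 1} (psProj B)).1 ⟨fun {T} p => ?_⟩
    obtain ⟨S, hS, h⟩ := hl T p
    refine J.superset_covering ?_ hS
    intro T' f hf
    obtain ⟨s, hP, hQ, hnat, hadd⟩ := h f hf
    exact ⟨⟨(P.obj.map f.op p, fun U a q => ⟨s a q, hQ a q⟩), fun U a q => hP a q,
      fun U V k a q => Subtype.ext (hnat k a q), fun U a q q' h => Subtype.ext (hadd a q q').symm⟩, rfl⟩
  refine { exact := BigSiteLib.FppfDesc.exact_of_locally_boundary fun T x hx => ?_ }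
  refine J.superset_covering ?_ (J.top_mem T)
  rintro T' f -
  obtain ⟨y, hy⟩ : ∃ y : PS B T', y = PSres B f x := ⟨_, rfl⟩
  have hy0 : y.1.1 = 0 := by
    rw [hy]
    exact (congrArg (P.obj.map f.op) hx).trans (map_zero _)
  have hex : ∀ (U : C) (a : U ⟶ T') (q : Q.obj.obj (op U)), ∃ g, Fib.incl (swap B) U q g = y.1.2 U a q := fun U a q => by
    obtain ⟨g, hg⟩ := Fib.exists_incl_of_proj (B := swap B) (x := (0 : Fib (swap B) U q)) (y := y.1.2 U a q)
      (by rw [map_zero, y.2.1, hy0, map_zero])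
    exact ⟨g, by rw [← hg, add_zero]⟩
  choose g hg using hex
  have hgadd : ∀ U a q q', g U a (q + q') = g U a q + g U a q' := fun U a q q' => by
    refine Fib.incl_injective (B := swap B) (p := q + q') ?_
    have hh : B.πP U (y.1.2 U a q).1 = B.πP U (y.1.2 U a q').1 := (y.2.1 U a q).trans (y.2.1 U a q').symm
    rw [hg, ← y.2.2.2 U a q q' hh, addQ_congr B (hg U a q).symm (hg U a q').symm hh]
    exact addQ_incl B _ _ _
  refine ⟨(⟨{
    app := fun X => AddCommGrpCat.ofHom (AddMonoidHom.mk' (fun q => g X.unop.left X.unop.hom q)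
      (fun q q' => hgadd _ _ q q'))
    naturality := fun X Y k => AddCommGrpCat.ext fun q => Fib.incl_injective (B := swap B) (by
      refine Eq.trans ?_ (res_incl' B k.unop.left q _)
      show Fib.incl (swap B) _ _ (g Y.unop.left Y.unop.hom (Q.obj.map k.unop.left.op q)) =
        Fib.res (swap B) k.unop.left rfl (Fib.incl (swap B) _ _ (g X.unop.left X.unop.hom q))
      rw [hg, hg, y.2.2.1, Over.w k.unop]) }⟩ : Q.over T' ⟶ G.over T'), ?_⟩
  show _ = PSres B f x
  rw [← hy]
  exact PS_ext B hy0.symm fun U a q => congrArg Subtype.val (hg U a q)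

/-- The biextension is trivial when `Ext¹(P, 𝓗om(Q, G))` and `Hom(P, 𝓔xt¹(Q, G))` vanish. -/
theorem isTrivial_of_vanishing [HasSheafify J AddCommGrpCat.{u + 1}]
    [EnoughInjectives (Sheaf J AddCommGrpCat.{u + 1})] [HasExt.{u + 1} (Sheaf J AddCommGrpCat.{u + 1})]
    (h₁ : ∀ e : Abelian.Ext P (HomSh.homSh J Q G) 1, e = 0)
    (h₂ : ∀ φ : P ⟶ ((HomSh.homShFunctor J Q).rightDerived 1).obj G, φ = 0) : Biext.IsTrivial J B := by
  have hS := shortExact_ps B (exists_local_psplit B h₂)
  obtain ⟨x, hx⟩ := Abelian.Ext.covariant_sequence_exact₃ P hS (Abelian.Ext.mk₀ (𝟙 P)) (n₁ := 1) rfl (h₁ _)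
  obtain ⟨s, rfl⟩ := (Abelian.Ext.mk₀_bijective P (psSh B)).2 x
  rw [Abelian.Ext.mk₀_comp_mk₀] at hx
  have hs : s ≫ psProj B = 𝟙 P := (Abelian.Ext.mk₀_bijective _ _).1 hx
  have hsec : ∀ T p, (s.hom.app (op T) p).1.1 = p := fun T p =>
    (congrArg (fun φ => φ.hom.app (op T) p) hs)
  exact ⟨{
    σ := fun T p q => ((s.hom.app (op T) p).1.2 T (𝟙 T) q).1
    πP_σ := fun T p q => by
      rw [πP_eq_proj, (s.hom.app (op T) p).2.1, hsec]
      exact res_id P p
    πQ_σ := fun T p q => ((s.hom.app (op T) p).1.2 T (𝟙 T) q).2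
    σ_map := fun {T T'} f p q => by
      refine (congrArg Subtype.val ((s.hom.app (op T) p).2.2.1 T T' f (𝟙 T) q)).trans ?_
      have e1 : s.hom.app (op T') (P.obj.map f.op p) = PSres B f (s.hom.app (op T) p) :=
        NatTrans.naturality_apply s.hom f.op p
      refine Eq.trans ?_ (congrArg (fun z : PS B T' => (z.1.2 T' (𝟙 T') (Q.obj.map f.op q)).1) e1).symm
      exact val_congr B _ (by simp) rfl
    σ_add₁ := fun T p p' q => congrArg (fun z : PS B T => (z.1.2 T (𝟙 T) q).1)
      (map_add (s.hom.app (op T)).hom p p')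
    σ_add₂ := fun T p q q' => by
      have h := (s.hom.app (op T) p).2.2.2 T (𝟙 T) q q'
        (((s.hom.app (op T) p).2.1 _ _ _).trans ((s.hom.app (op T) p).2.1 _ _ _).symm)
      exact (congrArg Subtype.val h).symm }⟩

end Groth.Agent.BiextSplit
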