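import Groth.Prelude.Def_Biext
import Groth.Prelude.Def_CGrpSh2
import Groth.Agent.BiextDiv.Basic
import Mathlib.CategoryTheory.Sites.Over

/-!
The fibres of a biextension over a section of one factor are groups; gluing lemmas.
-/

universe u

open CategoryTheory Opposite

namespace Groth.Agent.BiextSplit

open BiextDiv (res_res res_res_E ext_E ext_sec add₁_congr add₂_congr act_cancel act_add₁ act_add₂)

variable {C : Type (u + 1)} [Category.{u} C] {J : GrothendieckTopology C}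

theorem res_id (P : Sheaf J AddCommGrpCat.{u + 1}) {T : C} (v : P.obj.obj (op T)) : P.obj.map (𝟙 T).op v = v := by
  rw [op_id, P.obj.map_id, ConcreteCategory.id_apply]

/-- Gluing locally existing, unique sections. -/
theorem glue (F : Sheaf J (Type (u + 1))) {T : C} (R : ∀ ⦃U : C⦄, (U ⟶ T) → F.obj.obj (op U) → Prop)
    (hres : ∀ ⦃U V : C⦄ (k : V ⟶ U) (a : U ⟶ T) x, R a x → R (k ≫ a) (F.obj.map k.op x))
    (huniq : ∀ ⦃U : C⦄ (a : U ⟶ T) x y, R a x → R a y → x = y)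
    (hex : ∃ S ∈ J T, ∀ ⦃U : C⦄ (a : U ⟶ T), S a → ∃ x, R a x) :
    ∃ e : F.obj.obj (op T), ∀ ⦃U : C⦄ (a : U ⟶ T) x, R a x → F.obj.map a.op e = x := by
  obtain ⟨S, hS, hex⟩ := hex
  choose x hx using hex
  let fam : Presieve.FamilyOfElements F.obj S.arrows := fun U a ha => x a ha
  have hc : fam.Compatible := by
    intro U₁ U₂ Z g₁ g₂ a₁ a₂ h₁ h₂ e
    have h1 := hres g₁ a₁ _ (hx a₁ h₁)
    rw [e] at h1
    exact huniq _ _ _ h1 (hres g₂ a₂ _ (hx a₂ h₂))
  have hsh := (isSheaf_iff_isSheaf_of_type _ _).1 F.2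
  obtain ⟨e, he, -⟩ := hsh S hS fam hc
  refine ⟨e, fun U a y hy => (hsh _ (J.pullback_stable a hS)).isSeparatedFor.ext fun V k hk => ?_⟩
  rw [← ConcreteCategory.comp_apply, ← F.obj.map_comp, ← op_comp, he (k ≫ a) hk]
  exact huniq _ _ _ (hx _ hk) (hres k a _ hy)

variable {P Q G : Sheaf J AddCommGrpCat.{u + 1}}

/-- Gluing an additive natural assignment into a morphism of restrictions. -/
theorem descHom (M : Sheaf J AddCommGrpCat.{u + 1}) {T : C}
    (R : ∀ ⦃U : C⦄, (U ⟶ T) → Q.obj.obj (op U) → M.obj.obj (op U) → Prop)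
    (hres : ∀ ⦃U V : C⦄ (k : V ⟶ U) (a : U ⟶ T) q v, R a q v → R (k ≫ a) (Q.obj.map k.op q) (M.obj.map k.op v))
    (huniq : ∀ ⦃U : C⦄ (a : U ⟶ T) q v w, R a q v → R a q w → v = w)
    (hadd : ∀ ⦃U : C⦄ (a : U ⟶ T) q q' v v', R a q v → R a q' v' → R a (q + q') (v + v'))
    (hex : ∀ ⦃U : C⦄ (a : U ⟶ T) q, ∃ S ∈ J U, ∀ ⦃V : C⦄ (k : V ⟶ U), S k →
      ∃ v, R (k ≫ a) (Q.obj.map k.op q) v) :
    ∃ φ : Q.over T ⟶ M.over T, ∀ ⦃U : C⦄ (a : U ⟶ T) q v, R a q v → φ.hom.app (op (Over.mk a)) q = v := by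
  have key : ∀ ⦃U : C⦄ (a : U ⟶ T) (q : Q.obj.obj (op U)), ∃ w : M.obj.obj (op U),
      ∀ ⦃V : C⦄ (k : V ⟶ U) v, R (k ≫ a) (Q.obj.map k.op q) v → M.obj.map k.op w = v := fun U a q =>
    glue (Biext.uSh J M) (fun V k v => R (k ≫ a) (Q.obj.map k.op q) v)
      (fun V W l k v hv => by
        have := hres l _ _ _ hv
        rwa [res_res, ← Category.assoc] at this)
      (fun V k v w => huniq _ _ v w) (hex a q)
  choose w hw using key
  have hR : ∀ ⦃U : C⦄ (a : U ⟶ T) q v, R a q v → w a q = v := by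
    intro U a q v hv
    have := hw a q (𝟙 U) v (by rwa [Category.id_comp, res_id])
    rwa [res_id] at this
  have hwadd : ∀ ⦃U : C⦄ (a : U ⟶ T) q q', w a (q + q') = w a q + w a q' := by
    intro U a q q'
    obtain ⟨S, hS, h⟩ := hex a q
    obtain ⟨S', hS', h'⟩ := hex a q'
    refine ext_sec M (J.intersection_covering hS hS') fun V k hk => ?_
    obtain ⟨v, hv⟩ := h k hk.1
    obtain ⟨v', hv'⟩ := h' k hk.2
    rw [map_add, hw a q k v hv, hw a q' k v' hv', hw a (q + q') k (v + v') (by rw [map_add]; exact hadd _ _ _ _ _ hv hv')]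
  have hwnat : ∀ ⦃U V : C⦄ (k : V ⟶ U) (a : U ⟶ T) q, M.obj.map k.op (w a q) = w (k ≫ a) (Q.obj.map k.op q) := by
    intro U V k a q
    obtain ⟨S, hS, h⟩ := hex (k ≫ a) (Q.obj.map k.op q)
    refine ext_sec M hS fun W l hl => ?_
    obtain ⟨v, hv⟩ := h l hl
    rw [hw _ _ l v hv, res_res, hw a q (l ≫ k) v (by rw [Category.assoc, ← res_res]; exact hv)]
  refine ⟨⟨{
    app := fun X => AddCommGrpCat.ofHom (AddMonoidHom.mk' (fun q => w X.unop.hom q) (fun q q' => hwadd _ q q'))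
    naturality := fun X Y g => by
      refine AddCommGrpCat.ext fun q => ?_
      refine Eq.trans ?_ (hwnat g.unop.left X.unop.hom q).symm
      rw [Over.w g.unop]
      rfl }⟩, fun U a q v hv => hR a q v hv⟩

variable (B : Biext J P Q G)

/-- The biextension with the two factors exchanged. -/
def swap : Biext J Q P G where
  E := B.E
  πP := B.πQ
  πQ := B.πP
  πP_map := B.πQ_map
  πQ_map := B.πP_map
  act := B.act
  act_map := B.act_map
  πP_act := B.πQ_act
  πQ_act := B.πP_act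
  zero_act := B.zero_act
  add_act := B.add_act
  existsUnique_act T x y h h' := B.existsUnique_act T x y h' h
  locallySurjective T q p := by
    obtain ⟨R, hR, h⟩ := B.locallySurjective T p q
    exact ⟨R, hR, fun T' f hf => by obtain ⟨x, h1, h2⟩ := h f hf; exact ⟨x, h2, h1⟩⟩
  add₁ := B.add₂
  πP_add₁ := B.πQ_add₂
  πQ_add₁ := B.πP_add₂
  add₁_map := B.add₂_map
  add₁_comm := B.add₂_comm
  add₁_assoc := B.add₂_assoc
  add₁_act := B.add₂_act
  add₂ := B.add₁
  πP_add₂ := B.πQ_add₁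
  πQ_add₂ := B.πP_add₁
  add₂_map := B.add₁_map
  add₂_comm := B.add₁_comm
  add₂_assoc := B.add₁_assoc
  add₂_act := B.add₁_act
  compat T x y z t hxy hzt hxz hyt := (B.compat T x z y t hxz hyt hxy hzt).symm

variable {U : C}

theorem act_add₂_right (g : G.obj.obj (op U)) (x z : B.E.obj.obj (op U)) (h : B.πP U x = B.πP U z) :
    B.add₂ U x (B.act U g z) (by rw [B.πP_act, h]) = B.act U g (B.add₂ U x z h) := by
  have h' := act_add₂ B 0 g x z h
  rw [zero_add] at h'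
  exact (add₂_congr B (B.zero_act U x).symm rfl _).trans h'

/-- `z` is the idempotent over `(p, 0)`. -/
def IsUnit₂ (p : P.obj.obj (op U)) (z : B.E.obj.obj (op U)) : Prop :=
  B.πP U z = p ∧ B.πQ U z = 0 ∧ B.add₂ U z z rfl = z

theorem isUnit₂_unique {p : P.obj.obj (op U)} {z z' : B.E.obj.obj (op U)} (h : IsUnit₂ B p z)
    (h' : IsUnit₂ B p z') : z = z' := by
  obtain ⟨g, hg, -⟩ := B.existsUnique_act U z z' (h.1.trans h'.1.symm) (h.2.1.trans h'.2.1.symm)
  have h2 := h'.2.2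
  rw [add₂_congr B hg.symm hg.symm, act_add₂ B g g z z rfl, h.2.2, ← hg] at h2
  have hg0 : g + g = g + 0 := (act_cancel B h2).trans (add_zero g).symm
  rw [← hg, add_left_cancel hg0, B.zero_act]

theorem isUnit₂_map {V : C} (k : V ⟶ U) {p : P.obj.obj (op U)} {z : B.E.obj.obj (op U)} (h : IsUnit₂ B p z) :
    IsUnit₂ B (P.obj.map k.op p) (B.E.obj.map k.op z) :=
  ⟨by rw [B.πP_map, h.1], by rw [B.πQ_map, h.2.1, map_zero], by rw [← B.add₂_map k z z rfl, h.2.2]⟩

theorem exists_isUnit₂ (p : P.obj.obj (op U)) : ∃ z, IsUnit₂ B p z := by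
  obtain ⟨S, hS, h⟩ := B.locallySurjective U p 0
  obtain ⟨z, hz⟩ := glue B.E (fun V a z => IsUnit₂ B (P.obj.map a.op p) z)
    (fun V W k a z hz => by rw [← res_res]; exact isUnit₂_map B k hz)
    (fun V a x y => isUnit₂_unique B)
    ⟨S, hS, fun V a ha => by
      obtain ⟨e, heP, heQ⟩ := h a ha
      rw [map_zero] at heQ
      obtain ⟨g, hg, -⟩ := B.existsUnique_act V e (B.add₂ V e e rfl) (B.πP_add₂ V e e rfl).symm
        (by rw [B.πQ_add₂, heQ, add_zero])
      refine ⟨B.act V (-g) e, by rw [B.πP_act, heP], by rw [B.πQ_act, heQ], ?_⟩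
      rw [act_add₂ B _ _ e e rfl, ← hg, ← B.add_act, neg_add_cancel_right]⟩
  have hz' : ∀ ⦃V : C⦄ (a : V ⟶ U), S a → IsUnit₂ B (P.obj.map a.op p) (B.E.obj.map a.op z) := fun V a ha => by
    obtain ⟨e, heP, heQ⟩ := h a ha
    rw [map_zero] at heQ
    obtain ⟨g, hg, -⟩ := B.existsUnique_act V e (B.add₂ V e e rfl) (B.πP_add₂ V e e rfl).symm
      (by rw [B.πQ_add₂, heQ, add_zero])
    have : IsUnit₂ B (P.obj.map a.op p) (B.act V (-g) e) := ⟨by rw [B.πP_act, heP], by rw [B.πQ_act, heQ],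
      by rw [act_add₂ B _ _ e e rfl, ← hg, ← B.add_act, neg_add_cancel_right]⟩
    rwa [hz a _ this]
  refine ⟨z, ext_sec P hS fun V a ha => ?_, ext_sec Q hS fun V a ha => ?_, ext_E B hS fun V a ha => ?_⟩
  · rw [← B.πP_map, (hz' a ha).1]
  · rw [← B.πQ_map, (hz' a ha).2.1, map_zero]
  · rw [B.add₂_map, (hz' a ha).2.2]

theorem unit₂_add {p : P.obj.obj (op U)} {z : B.E.obj.obj (op U)} (hz : IsUnit₂ B p z) (x : B.E.obj.obj (op U))
    (hx : B.πP U x = p) : B.add₂ U z x (hz.1.trans hx.symm) = x := by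
  have hzx : B.πP U z = B.πP U x := hz.1.trans hx.symm
  obtain ⟨g, hg, -⟩ := B.existsUnique_act U x (B.add₂ U z x hzx) (by rw [B.πP_add₂, hzx])
    (by rw [B.πQ_add₂, hz.2.1, zero_add])
  have h1 := B.add₂_assoc U z z x rfl hzx
  rw [add₂_congr B hz.2.2 rfl] at h1
  rw [add₂_congr B (x := z) rfl hg.symm, act_add₂_right B g z x hzx] at h1
  rw [← hg] at h1
  nth_rw 1 [← B.zero_act U (B.act U g x)] at h1
  rw [← hg, ← act_cancel B h1, B.zero_act]

theorem exists_neg (x : B.E.obj.obj (op U)) {p : P.obj.obj (op U)} (hx : B.πP U x = p) {z : B.E.obj.obj (op U)}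
    (hz : IsUnit₂ B p z) : ∃ y, ∃ h : B.πP U y = p, B.add₂ U x y (hx.trans h.symm) = z := by
  obtain ⟨S, hS, h⟩ := B.locallySurjective U p (-B.πQ U x)
  let R : ∀ ⦃V : C⦄, (V ⟶ U) → B.E.obj.obj (op V) → Prop := fun V a y =>
    ∃ hy : B.πP V (B.E.obj.map a.op x) = B.πP V y,
      B.add₂ V (B.E.obj.map a.op x) y hy = B.E.obj.map a.op z
  have huniq : ∀ ⦃V : C⦄ (a : V ⟶ U) y y', R a y → R a y' → y = y' := by
    rintro V a y y' ⟨hy, e⟩ ⟨hy', e'⟩
    have hQ := congrArg (B.πQ V) (e.trans e'.symm)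
    rw [B.πQ_add₂, B.πQ_add₂] at hQ
    obtain ⟨g, hg, -⟩ := B.existsUnique_act V y y' (hy.symm.trans hy') (add_left_cancel hQ)
    rw [add₂_congr B (x := B.E.obj.map a.op x) rfl hg.symm, act_add₂_right B g _ y hy, e] at e'
    have hg0 : g = 0 := act_cancel B (e'.trans (B.zero_act V _).symm)
    rw [← hg, hg0, B.zero_act]
  have hex : ∀ ⦃V : C⦄ (a : V ⟶ U), S a → ∃ y, R a y := fun V a ha => by
    obtain ⟨e, heP, heQ⟩ := h a ha
    have hxe : B.πP V (B.E.obj.map a.op x) = B.πP V e := by rw [B.πP_map, hx, heP]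
    obtain ⟨g, hg, -⟩ := B.existsUnique_act V (B.E.obj.map a.op z) (B.add₂ V _ e hxe)
      (by rw [B.πP_add₂, B.πP_map, B.πP_map, hz.1, hx])
      (by rw [B.πQ_add₂, B.πQ_map, B.πQ_map, hz.2.1, heQ, map_zero, map_neg, add_neg_cancel])
    exact ⟨B.act V (-g) e, by rw [B.πP_act, hxe],
      by rw [act_add₂_right B (-g) _ e hxe, ← hg, ← B.add_act, neg_add_cancel, B.zero_act]⟩
  obtain ⟨y, hy⟩ := glue B.E R
    (fun V W k a y hy => by
      obtain ⟨hy, e⟩ := hy
      have h' := B.add₂_map k (B.E.obj.map a.op x) y hy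
      rw [e, res_res_E, add₂_congr B (res_res_E B a k x) rfl] at h'
      exact ⟨_, h'.symm⟩)
    huniq ⟨S, hS, hex⟩
  have hyP : B.πP U y = p := ext_sec P hS fun V a ha => by
    obtain ⟨y', hy', -⟩ := hex a ha
    obtain ⟨y'', h''⟩ := hex a ha
    obtain ⟨h3, e3⟩ := h''
    rw [← B.πP_map, hy a y'' ⟨h3, e3⟩, ← h3, B.πP_map, hx]
  refine ⟨y, hyP, ext_E B hS fun V a ha => ?_⟩
  obtain ⟨y', h', e'⟩ := hex a ha
  rw [B.add₂_map, add₂_congr B (x := B.E.obj.map a.op x) rfl (hy a y' ⟨h', e'⟩)]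
  exact e'

/-- The sections of `B` over `p`. -/
def Fib (U : C) (p : P.obj.obj (op U)) : Type (u + 1) :=
  { e : B.E.obj.obj (op U) // B.πP U e = p }

noncomputable instance (U : C) (p : P.obj.obj (op U)) : Zero (Fib B U p) :=
  ⟨⟨(exists_isUnit₂ B p).choose, (exists_isUnit₂ B p).choose_spec.1⟩⟩

instance (U : C) (p : P.obj.obj (op U)) : Add (Fib B U p) :=
  ⟨fun x y => ⟨B.add₂ U x.1 y.1 (x.2.trans y.2.symm), (B.πP_add₂ U _ _ _).trans x.2⟩⟩

noncomputable instance (U : C) (p : P.obj.obj (op U)) : Neg (Fib B U p) :=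
  ⟨fun x => ⟨(exists_neg B x.1 x.2 (exists_isUnit₂ B p).choose_spec).choose,
    (exists_neg B x.1 x.2 (exists_isUnit₂ B p).choose_spec).choose_spec.1⟩⟩

noncomputable instance (U : C) (p : P.obj.obj (op U)) : AddCommGroup (Fib B U p) where
  nsmul := nsmulRec
  zsmul := zsmulRec
  add_assoc x y z := Subtype.ext (B.add₂_assoc U x.1 y.1 z.1 _ _)
  zero_add x := Subtype.ext (unit₂_add B (exists_isUnit₂ B p).choose_spec x.1 x.2)
  add_zero x := Subtype.ext ((B.add₂_comm U x.1 _ _).trans (unit₂_add B (exists_isUnit₂ B p).choose_spec x.1 x.2))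
  add_comm x y := Subtype.ext (B.add₂_comm U x.1 y.1 _)
  neg_add_cancel x := Subtype.ext ((B.add₂_comm U _ x.1 _).trans
    (exists_neg B x.1 x.2 (exists_isUnit₂ B p).choose_spec).choose_spec.2)

namespace Fib

variable {B} {p : P.obj.obj (op U)}

theorem add_val (x y : Fib B U p) : (x + y).1 = B.add₂ U x.1 y.1 (x.2.trans y.2.symm) := rfl

theorem zero_add₂_zero : B.add₂ U (0 : Fib B U p).1 (0 : Fib B U p).1 rfl = (0 : Fib B U p).1 :=
  congrArg Subtype.val (show (0 : Fib B U p) + 0 = 0 from zero_add (0 : Fib B U p))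

variable (B) in
/-- The projection to `Q`. -/
noncomputable def proj (U : C) (p : P.obj.obj (op U)) : Fib B U p →+ Q.obj.obj (op U) :=
  AddMonoidHom.mk' (fun x => B.πQ U x.1) fun x y => B.πQ_add₂ U x.1 y.1 _

theorem proj_apply (x : Fib B U p) : proj B U p x = B.πQ U x.1 := rfl

variable (B) in
/-- The inclusion of `G`. -/
noncomputable def incl (U : C) (p : P.obj.obj (op U)) : G.obj.obj (op U) →+ Fib B U p :=
  AddMonoidHom.mk' (fun g => ⟨B.act U g (0 : Fib B U p).1, (B.πP_act U g _).trans (0 : Fib B U p).2⟩)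
    fun g g' => Subtype.ext (by
      rw [add_val, act_add₂ B g g' _ _ rfl, ← add_val (0 : Fib B U p) 0, add_zero])

theorem incl_apply (g : G.obj.obj (op U)) : (incl B U p g).1 = B.act U g (0 : Fib B U p).1 := rfl

theorem incl_add (g : G.obj.obj (op U)) (x : Fib B U p) : (incl B U p g + x).1 = B.act U g x.1 := by
  rw [add_val, add₂_congr B (incl_apply g) rfl, B.add₂_act U g _ x.1 ((0 : Fib B U p).2.trans x.2.symm),
    ← add_val (0 : Fib B U p) x, zero_add]

theorem incl_injective : Function.Injective (incl B U p) := fun _ _ h => act_cancel B (congrArg Subtype.val h)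

theorem proj_incl (g : G.obj.obj (op U)) : proj B U p (incl B U p g) = 0 := by
  rw [proj_apply, incl_apply, B.πQ_act, ← proj_apply, map_zero]

theorem exists_incl_of_proj {x y : Fib B U p} (h : proj B U p x = proj B U p y) : ∃ g, incl B U p g + x = y := by
  obtain ⟨g, hg, -⟩ := B.existsUnique_act U x.1 y.1 (x.2.trans y.2.symm) h
  exact ⟨g, Subtype.ext ((incl_add g x).trans hg)⟩

variable (B) in
/-- Restriction. -/
noncomputable def res {V : C} (k : V ⟶ U) {p : P.obj.obj (op U)} {p' : P.obj.obj (op V)}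
    (h : P.obj.map k.op p = p') : Fib B U p →+ Fib B V p' :=
  AddMonoidHom.mk' (fun x => ⟨B.E.obj.map k.op x.1, by rw [B.πP_map, x.2, h]⟩)
    fun x y => Subtype.ext (B.add₂_map k x.1 y.1 _)

theorem res_val {V : C} (k : V ⟶ U) {p' : P.obj.obj (op V)} (h : P.obj.map k.op p = p') (x : Fib B U p) :
    (res B k h x).1 = B.E.obj.map k.op x.1 := rfl

theorem res_incl {V : C} (k : V ⟶ U) {p' : P.obj.obj (op V)} (h : P.obj.map k.op p = p') (g : G.obj.obj (op U)) :
    res B k h (incl B U p g) = incl B V p' (G.obj.map k.op g) := Subtype.ext (by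
  rw [res_val, incl_apply, B.act_map, incl_apply, ← res_val k h, map_zero])

end Fib

end Groth.Agent.BiextSplit
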