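import Groth.Prelude.Def_CohCx
import Mathlib.CategoryTheory.Preadditive.Injective.Basic
import Mathlib.Algebra.Category.Grp.EnoughInjectives
import Mathlib.Algebra.Category.Grp.EpiMono
import Mathlib.CategoryTheory.Sites.Over

/-!
# Cofree presheaves on a family of injective groups; restriction to slice categories
-/

universe u

open CategoryTheory CategoryTheory.Limits Opposite

namespace Groth.Agent.BiextSplit.InjOver

variable {D : Type (u + 1)} [Category.{u} D]

/-- The cofree presheaf on a family of groups. -/
def cofreeFam (Q : D → AddCommGrpCat.{u + 1}) : Dᵒᵖ ⥤ AddCommGrpCat.{u + 1} where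
  obj T := AddCommGrpCat.of (∀ T0 : D, (T0 ⟶ T.unop) → Q T0)
  map f := AddCommGrpCat.ofHom
    { toFun := fun x T0 h => x T0 (h ≫ f.unop)
      map_zero' := rfl
      map_add' := fun _ _ => rfl }
  map_id T := AddCommGrpCat.hom_ext <| AddMonoidHom.ext fun x => funext₂ fun T0 h =>
    congrArg (x T0) (Category.comp_id h)
  map_comp f g := AddCommGrpCat.hom_ext <| AddMonoidHom.ext fun x => funext₂ fun T0 h =>
    congrArg (x T0) (Category.assoc h _ _).symm

theorem injective_cofreeFam (Q : D → AddCommGrpCat.{u + 1}) (hQ : ∀ T, Injective (Q T)) :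
    Injective (cofreeFam Q) := by
  refine ⟨fun {P P'} g a _ => ?_⟩
  choose ψ hψ using fun T0 : D => (hQ T0).factors
    (AddCommGrpCat.ofHom
      { toFun := fun x : P.obj (op T0) => ((g.app (op T0)).hom x : ∀ T1 : D, (T1 ⟶ T0) → Q T1) T0 (𝟙 T0)
        map_zero' := congrFun (congrFun (map_zero (g.app (op T0)).hom) T0) (𝟙 T0)
        map_add' := fun x y => congrFun (congrFun (map_add (g.app (op T0)).hom x y) T0) (𝟙 T0) })
    (a.app (op T0))
  refine ⟨{
    app := fun T => AddCommGrpCat.ofHom
      { toFun := fun x T0 h => (ψ T0).hom ((P'.map h.op).hom x)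
        map_zero' := funext₂ fun T0 h => by simp
        map_add' := fun x y => funext₂ fun T0 h => by simp }
    naturality := fun S T k => by
      ext x
      funext T0 h
      exact congrArg (ψ T0).hom (ConcreteCategory.congr_hom (P'.map_comp k h.op) x).symm }, ?_⟩
  ext T x
  funext T0 h
  refine (congrArg (ψ T0).hom (ConcreteCategory.congr_hom (a.naturality h.op) x).symm).trans ?_
  refine (ConcreteCategory.congr_hom (hψ T0) _).trans ?_
  refine (congrFun (congrFun (ConcreteCategory.congr_hom (g.naturality h.op) x) T0) (𝟙 T0)).trans ?_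
  exact congrArg (((g.app T).hom x : ∀ T1 : D, (T1 ⟶ T.unop) → Q T1) T0) (Category.id_comp h)

/-- Evaluation of a presheaf in a cofree presheaf. -/
def toCofreeFam (P : Dᵒᵖ ⥤ AddCommGrpCat.{u + 1}) (Q : D → AddCommGrpCat.{u + 1}) (i : ∀ T, P.obj (op T) ⟶ Q T) :
    P ⟶ cofreeFam Q where
  app T := AddCommGrpCat.ofHom
    { toFun := fun s T0 h => (i T0).hom ((P.map h.op).hom s)
      map_zero' := funext₂ fun T0 h => by simp
      map_add' := fun _ _ => funext₂ fun T0 h => by simp }
  naturality S T f := by
    ext s; funext T0 h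
    exact congrArg (i T0).hom (ConcreteCategory.congr_hom (P.map_comp f h.op) s).symm

theorem exists_retract_cofreeFam (P : Dᵒᵖ ⥤ AddCommGrpCat.{u + 1}) [Injective P] :
    ∃ (Q : D → AddCommGrpCat.{u + 1}), (∀ T, Injective (Q T)) ∧
      ∃ (i : P ⟶ cofreeFam Q) (r : cofreeFam Q ⟶ P), i ≫ r = 𝟙 P := by
  let pr := fun T : D => Classical.choice (EnoughInjectives.presentation (P.obj (op T)))
  let i := toCofreeFam P (fun T => (pr T).J) (fun T => (pr T).f)
  have : ∀ T, Mono (i.app T) := fun T => (AddCommGrpCat.mono_iff_injective _).2 fun a b hab => by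
    have h : ((pr T.unop).f).hom ((P.map (𝟙 T.unop).op).hom a) =
        ((pr T.unop).f).hom ((P.map (𝟙 T.unop).op).hom b) := congrFun (congrFun hab T.unop) (𝟙 _)
    simpa using (AddCommGrpCat.mono_iff_injective _).1 (pr T.unop).mono h
  have : Mono i := NatTrans.mono_of_mono_app _
  exact ⟨_, fun T => (pr T).injective, i, Injective.factorThru (𝟙 P) i, Injective.comp_factorThru _ _⟩

theorem injective_of_retract {A : Type*} [Category A] {P Q : A} [Injective Q] (i : P ⟶ Q) (r : Q ⟶ P)
    (h : i ≫ r = 𝟙 P) : Injective P :=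
  ⟨fun g a _ => ⟨Injective.factorThru (g ≫ i) a ≫ r, by
    rw [← Category.assoc, Injective.comp_factorThru, Category.assoc, h, Category.comp_id]⟩⟩

variable {C : Type (u + 1)} [Category.{u} C]

/-- Injective presheaves stay injective on slice categories. -/
theorem injective_presheaf_over (U : C) (P : Cᵒᵖ ⥤ AddCommGrpCat.{u + 1}) [Injective P] :
    Injective ((Over.forget U).op ⋙ P) := by
  obtain ⟨Q, hQ, i, r, hir⟩ := exists_retract_cofreeFam P
  let Q' : Over U → AddCommGrpCat.{u + 1} := fun T => Q T.left
  have := injective_cofreeFam Q' fun T => hQ T.left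
  have key : ∀ (S : Over U) (x : (cofreeFam Q').obj (op S)) (V : C) (g g' : V ⟶ U) (_ : g = g')
      (p : Over.mk g ⟶ S) (q : Over.mk g' ⟶ S), p.left = q.left →
        (show Q V from x (Over.mk g) p) = (show Q V from x (Over.mk g') q) := by
    intro S x V g g' hg p q hpq
    subst hg
    obtain rfl : p = q := Over.OverMorphism.ext hpq
    rfl
  let θ : cofreeFam Q' ⟶ (Over.forget U).op ⋙ cofreeFam Q :=
    { app := fun T => AddCommGrpCat.ofHom
        { toFun := fun x V h => x (Over.mk (h ≫ T.unop.hom)) (Over.homMk h)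
          map_zero' := rfl
          map_add' := fun _ _ => rfl }
      naturality := fun S T f => by
        ext x; funext V h
        exact key S.unop x V _ _ (by
          exact (congrArg (fun t : T.unop.left ⟶ U => (show V ⟶ T.unop.left from h) ≫ t)
            (Over.w f.unop)).symm.trans (Category.assoc _ _ _).symm) _ _ rfl }
  let ξ : (Over.forget U).op ⋙ cofreeFam Q ⟶ cofreeFam Q' :=
    { app := fun T => AddCommGrpCat.ofHom
        { toFun := fun x T0 h => x T0.left h.left
          map_zero' := rfl
          map_add' := fun _ _ => rfl }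
      naturality := fun S T f => rfl }
  refine injective_of_retract (Functor.whiskerLeft (Over.forget U).op i ≫ ξ)
    (θ ≫ Functor.whiskerLeft (Over.forget U).op r) ?_
  have hξθ : ξ ≫ θ = 𝟙 _ := by ext T x; rfl
  rw [Category.assoc, ← Category.assoc ξ, hξθ, Category.id_comp, ← Functor.whiskerLeft_comp, hir]
  rfl

/-- Localising an injective sheaf gives an injective sheaf. -/
theorem injective_over {J : GrothendieckTopology C} (U : C) (I : Sheaf J AddCommGrpCat.{u + 1}) [Injective I] :
    Injective (((Over.forget U).sheafPushforwardContinuous AddCommGrpCat.{u + 1} (J.over U) J).obj I) := by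
  have : Injective I.obj :=
    Injective.injective_of_adjoint (sheafificationAdjunction J AddCommGrpCat.{u + 1}) I
  have := injective_presheaf_over U I.obj
  refine ⟨fun {P P'} g a ha => ?_⟩
  have : Mono a.hom := (sheafToPresheaf (J.over U) AddCommGrpCat.{u + 1}).map_mono a
  have hJ : Injective (((Over.forget U).sheafPushforwardContinuous AddCommGrpCat.{u + 1} (J.over U) J).obj I).obj :=
    injective_presheaf_over U I.obj
  obtain ⟨l, hl⟩ := hJ.factors g.hom a.hom
  exact ⟨⟨l⟩, (sheafToPresheaf (J.over U) AddCommGrpCat.{u + 1}).map_injective hl⟩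

end Groth.Agent.BiextSplit.InjOver
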