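import Groth.Agent.BiextSplit.Fib
import Groth.Agent.BiextSplit.InjOver

/-!
Trivialisations of a biextension over a section, with values in an injective sheaf.
-/

set_option backward.isDefEq.respectTransparency false

universe u

open CategoryTheory CategoryTheory.Limits Opposite

namespace Groth.Agent.BiextSplit

open BiextDiv (res_res res_res_E ext_E ext_sec add₁_congr add₂_congr act_cancel act_add₁ act_add₂)

variable {C : Type (u + 1)} [Category.{u} C] {J : GrothendieckTopology C}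
  {P Q G I Z : Sheaf J AddCommGrpCat.{u + 1}} (B : Biext J P Q G) (ι : G ⟶ I)

/-- The value of a section of the internal Hom. -/
noncomputable def hv {M : Sheaf J AddCommGrpCat.{u + 1}} {T : C} (c : Q.over T ⟶ M.over T) {U : C} (a : U ⟶ T) :
    Q.obj.obj (op U) →+ M.obj.obj (op U) := (c.hom.app (op (Over.mk a))).hom

theorem hv_nat {M : Sheaf J AddCommGrpCat.{u + 1}} {T : C} (c : Q.over T ⟶ M.over T) {U V : C} (k : V ⟶ U)
    (a : U ⟶ T) (q : Q.obj.obj (op U)) : M.obj.map k.op (hv c a q) = hv c (k ≫ a) (Q.obj.map k.op q) :=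
  (ConcreteCategory.congr_hom (c.hom.naturality (Over.homMk k : Over.mk (k ≫ a) ⟶ Over.mk a).op) q).symm

theorem hom_ext_hv {M : Sheaf J AddCommGrpCat.{u + 1}} {T : C} {c c' : Q.over T ⟶ M.over T}
    (h : ∀ ⦃U : C⦄ (a : U ⟶ T) q, hv c a q = hv c' a q) : c = c' :=
  Sheaf.hom_ext (NatTrans.ext (funext fun X => AddCommGrpCat.ext fun q => h X.unop.hom q))

/-- A trivialisation with values in `I` of the extension of `Q` by `G` over the section `p`. -/
structure Triv (T : C) (p : P.obj.obj (op T)) where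
  fv : ∀ ⦃U : C⦄ (a : U ⟶ T), Fib B U (P.obj.map a.op p) →+ I.obj.obj (op U)
  fv_incl : ∀ ⦃U : C⦄ (a : U ⟶ T) (g : G.obj.obj (op U)), fv a (Fib.incl B U _ g) = ι.hom.app (op U) g
  fv_res : ∀ ⦃U V : C⦄ (k : V ⟶ U) (a : U ⟶ T) (x : Fib B U (P.obj.map a.op p)),
    fv (k ≫ a) (Fib.res B k (res_res P a k p) x) = I.obj.map k.op (fv a x)

/-- The fibres over the restrictions of `p`, as a presheaf on the slice. -/
noncomputable def fibPre (T : C) (p : P.obj.obj (op T)) : (Over T)ᵒᵖ ⥤ AddCommGrpCat.{u + 1} where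
  obj X := AddCommGrpCat.of (Fib B X.unop.left (P.obj.map X.unop.hom.op p))
  map {X Y} g := AddCommGrpCat.ofHom (Fib.res B g.unop.left (by rw [res_res, Over.w g.unop]))
  map_id X := AddCommGrpCat.ext fun x => Subtype.ext (by
    show B.E.obj.map (𝟙 X.unop.left).op x.1 = x.1
    rw [op_id, B.E.obj.map_id, ConcreteCategory.id_apply])
  map_comp f g := AddCommGrpCat.ext fun x => Subtype.ext (res_res_E B f.unop.left g.unop.left x.1).symm

theorem exists_triv [HasSheafify J AddCommGrpCat.{u + 1}] [Injective I] (T : C) (p : P.obj.obj (op T)) :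
    Nonempty (Triv B ι T p) := by
  have : Injective I.obj :=
    Injective.injective_of_adjoint (sheafificationAdjunction J AddCommGrpCat.{u + 1}) I
  have hI := InjOver.injective_presheaf_over T I.obj
  let i : (Over.forget T).op ⋙ G.obj ⟶ fibPre B T p :=
    { app := fun X => AddCommGrpCat.ofHom (Fib.incl B X.unop.left _)
      naturality := fun X Y g => AddCommGrpCat.ext fun v =>
        (Fib.res_incl g.unop.left (by rw [res_res, Over.w g.unop]) v).symm }
  haveI : ∀ X, Mono (i.app X) := fun X => (AddCommGrpCat.mono_iff_injective _).2 Fib.incl_injective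
  haveI : Mono i := NatTrans.mono_of_mono_app i
  obtain ⟨f, hf⟩ := hI.factors (Functor.whiskerLeft (Over.forget T).op ι.hom) i
  exact ⟨{
    fv := fun U a => (f.app (op (Over.mk a))).hom
    fv_incl := fun U a g => ConcreteCategory.congr_hom (NatTrans.congr_app hf (op (Over.mk a))) g
    fv_res := fun U V k a x =>
      ConcreteCategory.congr_hom (f.naturality (Over.homMk k : Over.mk (k ≫ a) ⟶ Over.mk a).op) x }⟩

variable {B ι}

/-- Independence of the representative of the base point. -/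
noncomputable def Triv.val {T : C} {p : P.obj.obj (op T)} (t : Triv B ι T p) {U : C} (a : U ⟶ T)
    (e : B.E.obj.obj (op U)) (h : B.πP U e = P.obj.map a.op p) : I.obj.obj (op U) := t.fv a ⟨e, h⟩

theorem Triv.val_congr {T : C} {p : P.obj.obj (op T)} (t : Triv B ι T p) {U : C} {a a' : U ⟶ T}
    {e e' : B.E.obj.obj (op U)} (ha : a = a') (he : e = e') (h : B.πP U e = P.obj.map a.op p) :
    t.val a e h = t.val a' e' (he ▸ ha ▸ h) := by
  subst ha; subst he; rfl

theorem Triv.val_act {T : C} {p : P.obj.obj (op T)} (t : Triv B ι T p) {U : C} (a : U ⟶ T)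
    (g : G.obj.obj (op U)) (e : B.E.obj.obj (op U)) (h : B.πP U e = P.obj.map a.op p) :
    t.val a (B.act U g e) ((B.πP_act U g e).trans h) = ι.hom.app (op U) g + t.val a e h := by
  have h1 : (⟨B.act U g e, (B.πP_act U g e).trans h⟩ : Fib B U _) = Fib.incl B U _ g + ⟨e, h⟩ :=
    Subtype.ext (Fib.incl_add g (⟨e, h⟩ : Fib B U (P.obj.map a.op p))).symm
  show t.fv a _ = _
  rw [h1, map_add, t.fv_incl]
  rfl

theorem Triv.val_add₂ {T : C} {p : P.obj.obj (op T)} (t : Triv B ι T p) {U : C} (a : U ⟶ T)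
    (e e' : B.E.obj.obj (op U)) (h : B.πP U e = P.obj.map a.op p) (h' : B.πP U e' = P.obj.map a.op p) :
    t.val a (B.add₂ U e e' (h.trans h'.symm)) ((B.πP_add₂ U _ _ _).trans h) = t.val a e h + t.val a e' h' :=
  map_add (t.fv a) ⟨e, h⟩ ⟨e', h'⟩

theorem Triv.val_res {T : C} {p : P.obj.obj (op T)} (t : Triv B ι T p) {U V : C} (k : V ⟶ U) (a : U ⟶ T)
    (e : B.E.obj.obj (op U)) (h : B.πP U e = P.obj.map a.op p) :
    t.val (k ≫ a) (B.E.obj.map k.op e) (by rw [B.πP_map, h, res_res]) = I.obj.map k.op (t.val a e h) :=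
  t.fv_res k a ⟨e, h⟩

/-- Restriction of a trivialisation. -/
noncomputable def Triv.restrict {T T' : C} (f : T' ⟶ T) {p : P.obj.obj (op T)} (t : Triv B ι T p) :
    Triv B ι T' (P.obj.map f.op p) where
  fv U a := AddMonoidHom.mk' (fun x => t.val (a ≫ f) x.1 (by rw [x.2, res_res])) fun x y => by
    rw [← t.val_add₂]; rfl
  fv_incl U a g := by
    show t.val (a ≫ f) _ _ = _
    have h0 : B.πP U (0 : Fib B U (P.obj.map a.op (P.obj.map f.op p))).1 = P.obj.map (a ≫ f).op p :=
      (0 : Fib B U (P.obj.map a.op (P.obj.map f.op p))).2.trans (res_res P f a p)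
    have hz : t.val (a ≫ f) (0 : Fib B U (P.obj.map a.op (P.obj.map f.op p))).1 h0 = 0 := by
      have := t.val_add₂ (a ≫ f) _ _ h0 h0
      rw [t.val_congr rfl Fib.zero_add₂_zero _] at this
      exact (add_eq_left (a := t.val (a ≫ f) _ h0)).1 this.symm
    rw [t.val_congr rfl (Fib.incl_apply g) _, t.val_act (a ≫ f) g _ h0, hz, add_zero]
  fv_res U V k a x := by
    show t.val ((k ≫ a) ≫ f) (B.E.obj.map k.op x.1) _ = I.obj.map k.op (t.val (a ≫ f) x.1 _)
    rw [t.val_congr (Category.assoc k a f) rfl _, t.val_res]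

theorem Triv.restrict_val {T T' : C} (f : T' ⟶ T) {p : P.obj.obj (op T)} (t : Triv B ι T p) {U : C}
    (a : U ⟶ T') (e : B.E.obj.obj (op U)) (h : B.πP U e = P.obj.map a.op (P.obj.map f.op p)) :
    (t.restrict f).val a e h = t.val (a ≫ f) e (by rw [h, res_res]) := rfl

variable (B ι) (π : I ⟶ Z)

/-- `c` is the morphism `Q → Z` induced by a trivialisation over `p`. -/
def Cls (T : C) (p : P.obj.obj (op T)) (c : Q.over T ⟶ Z.over T) : Prop :=
  ∃ t : Triv B ι T p, ∀ ⦃U : C⦄ (a : U ⟶ T) (e : B.E.obj.obj (op U)) (h : B.πP U e = P.obj.map a.op p),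
    hv c a (B.πQ U e) = π.hom.app (op U) (t.val a e h)

variable {B ι π}

theorem exists_cls [HasSheafify J AddCommGrpCat.{u + 1}] [Injective I] (w : ι ≫ π = 0) (T : C)
    (p : P.obj.obj (op T)) : ∃ c, Cls B ι π T p c := by
  obtain ⟨t⟩ := exists_triv B ι T p
  have hw : ∀ (U : C) (g : G.obj.obj (op U)), π.hom.app (op U) (ι.hom.app (op U) g) = 0 := fun U g => by
    have := ConcreteCategory.congr_hom (congrArg (fun φ => φ.hom.app (op U)) w) g
    simpa using this
  obtain ⟨c, hc⟩ := descHom Z (fun U a q v => ∃ e, ∃ h : B.πP U e = P.obj.map a.op p,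
      B.πQ U e = q ∧ π.hom.app (op U) (t.val a e h) = v)
    (fun U V k a q v ⟨e, h, hq, hv⟩ => ⟨B.E.obj.map k.op e, by rw [B.πP_map, h, res_res],
      by rw [B.πQ_map, hq], by rw [t.val_res k a e h, ← hv]; exact NatTrans.naturality_apply π.hom k.op _⟩)
    (fun U a q v w ⟨e, h, hq, hv⟩ ⟨e', h', hq', hv'⟩ => by
      obtain ⟨g, hg, -⟩ := B.existsUnique_act U e e' (h.trans h'.symm) (hq.trans hq'.symm)
      rw [← hv, ← hv', t.val_congr rfl hg.symm h', t.val_act a g e h, map_add, hw, zero_add])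
    (fun U a q q' v v' ⟨e, h, hq, hv⟩ ⟨e', h', hq', hv'⟩ => ⟨B.add₂ U e e' (h.trans h'.symm),
      (B.πP_add₂ U _ _ _).trans h, by rw [B.πQ_add₂, hq, hq'], by rw [t.val_add₂ a e e' h h', map_add, hv, hv']⟩)
    (fun U a q => by
      obtain ⟨S, hS, hl⟩ := B.locallySurjective U (P.obj.map a.op p) q
      refine ⟨S, hS, fun V k hk => ?_⟩
      obtain ⟨e, heP, heQ⟩ := hl k hk
      exact ⟨_, e, heP.trans (res_res P a k p), heQ, rfl⟩)
  exact ⟨c, t, fun U a e h => hc a (B.πQ U e) _ ⟨e, h, rfl, rfl⟩⟩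

theorem Cls.restrict {T T' : C} (f : T' ⟶ T) {p : P.obj.obj (op T)} {c : Q.over T ⟶ Z.over T}
    (h : Cls B ι π T p c) :
    Cls B ι π T' (P.obj.map f.op p) ((HomSh.homSh J Q Z).obj.map f.op c) := by
  obtain ⟨t, ht⟩ := h
  exact ⟨t.restrict f, fun U a e he => ht (a ≫ f) e (by rw [he, res_res])⟩

/-- The classes are additive up to morphisms into `I`. -/
theorem Cls.add {T : C} {p p' : P.obj.obj (op T)} {c c' c'' : Q.over T ⟶ Z.over T}
    (h : Cls B ι π T p c) (h' : Cls B ι π T p' c') (h'' : Cls B ι π T (p + p') c'') :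
    ∃ d : Q.over T ⟶ I.over T, ∀ ⦃U : C⦄ (a : U ⟶ T) (q : Q.obj.obj (op U)),
      π.hom.app (op U) (hv d a q) = hv c'' a q - hv c a q - hv c' a q := by
  obtain ⟨t, ht⟩ := h
  obtain ⟨t', ht'⟩ := h'
  obtain ⟨t'', ht''⟩ := h''
  let R : ∀ ⦃U : C⦄, (U ⟶ T) → Q.obj.obj (op U) → I.obj.obj (op U) → Prop := fun U a q v =>
    ∃ e e', ∃ h : B.πP U e = P.obj.map a.op p, ∃ h' : B.πP U e' = P.obj.map a.op p',
      ∃ hq : B.πQ U e = q, ∃ hq' : B.πQ U e' = q,
        t''.val a (B.add₁ U e e' (hq.trans hq'.symm)) (by rw [B.πP_add₁, h, h', map_add]) -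
          t.val a e h - t'.val a e' h' = v
  have hex : ∀ ⦃U : C⦄ (a : U ⟶ T) q, ∃ S ∈ J U, ∀ ⦃V : C⦄ (k : V ⟶ U), S k →
      ∃ v, R (k ≫ a) (Q.obj.map k.op q) v := by
    intro U a q
    obtain ⟨S, hS, hl⟩ := B.locallySurjective U (P.obj.map a.op p) q
    obtain ⟨S', hS', hl'⟩ := B.locallySurjective U (P.obj.map a.op p') q
    refine ⟨S ⊓ S', J.intersection_covering hS hS', fun V k hk => ?_⟩
    obtain ⟨e, heP, heQ⟩ := hl k hk.1
    obtain ⟨e', heP', heQ'⟩ := hl' k hk.2
    exact ⟨_, e, e', heP.trans (res_res P a k p), heP'.trans (res_res P a k p'), heQ, heQ', rfl⟩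
  obtain ⟨d, hd⟩ := descHom I R
    (fun U V k a q v ⟨e, e', he, he', hq, hq', hv⟩ => by
      have h1 : B.πP V (B.E.obj.map k.op e) = P.obj.map (k ≫ a).op p := by rw [B.πP_map, he, res_res]
      have h1' : B.πP V (B.E.obj.map k.op e') = P.obj.map (k ≫ a).op p' := by rw [B.πP_map, he', res_res]
      refine ⟨B.E.obj.map k.op e, B.E.obj.map k.op e', h1, h1', by rw [B.πQ_map, hq], by rw [B.πQ_map, hq'], ?_⟩
      rw [← hv, map_sub, map_sub, ← t.val_res k a e he, ← t'.val_res k a e' he', ← t''.val_res,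
        t''.val_congr rfl (B.add₁_map k e e' (hq.trans hq'.symm)) _])
    (fun U a q v w ⟨e, e', he, he', hq, hq', hv⟩ ⟨f, f', hf, hf', hr, hr', hw⟩ => by
      obtain ⟨g, hg, -⟩ := B.existsUnique_act U e f (he.trans hf.symm) (hq.trans hr.symm)
      obtain ⟨g', hg', -⟩ := B.existsUnique_act U e' f' (he'.trans hf'.symm) (hq'.trans hr'.symm)
      have hh : B.πP U (B.add₁ U e e' (hq.trans hq'.symm)) = P.obj.map a.op (p + p') := by
        rw [B.πP_add₁, he, he', map_add]
      rw [← hv, ← hw, t.val_congr rfl hg.symm hf, t.val_act a g e he, t'.val_congr rfl hg'.symm hf',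
        t'.val_act a g' e' he',
        t''.val_congr rfl ((add₁_congr B hg.symm hg'.symm (hr.trans hr'.symm)).trans
          (act_add₁ B g g' e e' (hq.trans hq'.symm))) _, t''.val_act a (g + g') _ hh, map_add (ι.hom.app (op U)).hom g g']
      abel)
    (fun U a q r v w ⟨e, e', he, he', hq, hq', hv⟩ ⟨f, f', hf, hf', hr, hr', hw⟩ => by
      have hh : ∀ {x y : B.E.obj.obj (op U)} (hxy : B.πQ U x = B.πQ U y), B.πP U x = P.obj.map a.op p →
          B.πP U y = P.obj.map a.op p' → B.πP U (B.add₁ U x y hxy) = P.obj.map a.op (p + p') :=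
        fun hxy hx hy => by rw [B.πP_add₁, hx, hy, map_add]
      refine ⟨B.add₂ U e f (he.trans hf.symm), B.add₂ U e' f' (he'.trans hf'.symm),
        (B.πP_add₂ U _ _ _).trans he, (B.πP_add₂ U _ _ _).trans he', by rw [B.πQ_add₂, hq, hr],
        by rw [B.πQ_add₂, hq', hr'], ?_⟩
      rw [t''.val_congr rfl (B.compat U e f e' f' (he.trans hf.symm) (he'.trans hf'.symm) (hq.trans hq'.symm)
          (hr.trans hr'.symm)) _, t''.val_add₂ a _ _ (hh _ he he') (hh _ hf hf'), t.val_add₂ a e f he hf,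
        t'.val_add₂ a e' f' he' hf', ← hv, ← hw]
      abel)
    hex
  refine ⟨d, fun U a q => ?_⟩
  obtain ⟨S, hS, hl⟩ := hex a q
  refine ext_sec Z hS fun V k hk => ?_
  obtain ⟨v, e, e', he, he', hq, hq', hve⟩ := hl k hk
  rw [map_sub, map_sub, hv_nat, hv_nat, hv_nat, ← NatTrans.naturality_apply π.hom k.op, hv_nat,
    show hv d (k ≫ a) (Q.obj.map k.op q) = v from hd (k ≫ a) _ v ⟨e, e', he, he', hq, hq', hve⟩, ← hve,
    map_sub, map_sub, ← ht (k ≫ a) e he, ← ht' (k ≫ a) e' he', ← ht'', B.πQ_add₁, hq, hq']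

end Groth.Agent.BiextSplit
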